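import Groth.Prelude.Def_SekSuwa
import Mathlib.AlgebraicGeometry.Morphisms.Flat
import Mathlib.AlgebraicGeometry.Morphisms.Affine
import Mathlib.RingTheory.Flat.TorsionFree
import Mathlib.RingTheory.Localization.Away.Basic

/-!
# Points of `G^(λ)` and of the multiplicative group over a base scheme, and `α^λ` on them
-/

set_option autoImplicit false
set_option backward.isDefEq.respectTransparency.types false
set_option linter.style.haveILetI false

universe u

open CategoryTheory CategoryTheory.Limits MonoidalCategory CartesianMonoidalCategory MonObj AlgebraicGeometry Opposite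

noncomputable section

namespace Groth.L09.SekSuwaPts

variable {R : Type u} [CommRing R] {X : Scheme.{u}} (f : X ⟶ Spec (CommRingCat.of R))

/-- constants as functions -/
def str (W : Over X) : R →+* Γ(W.left, ⊤) :=
  ((Scheme.ΓSpecIso (CommRingCat.of R)).inv ≫ (W.hom ≫ f).appTop).hom

theorem str_comp {V W : Over X} (j : V ⟶ W) (r : R) : j.left.appTop.hom (str f W r) = str f V r := by
  have h : V.hom ≫ f = j.left ≫ W.hom ≫ f := by rw [← Category.assoc, Over.w j]
  simp only [str, h, Scheme.Hom.comp_appTop, CommRingCat.hom_comp, RingHom.comp_apply]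

/-- an affine `R`-scheme -/
abbrev specR (B : Type u) [CommRing B] [Algebra R B] : Over (Spec (CommRingCat.of R)) :=
  (Spec (CommRingCat.of B)).asOver (Spec (CommRingCat.of R))

variable {f} {B C : Type u} [CommRing B] [Algebra R B] [CommRing C] [Algebra R C] {V W : Over X}

/-- the ring map of a point -/
def pr (h : W ⟶ Red.bc f (specR B)) : B →+* Γ(W.left, ⊤) :=
  ((Scheme.ΓSpecIso (CommRingCat.of B)).inv ≫ (h.left ≫ pullback.fst (specR B).hom f).appTop).hom

theorem pr_comp (j : V ⟶ W) (h : W ⟶ Red.bc f (specR B)) (b : B) :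
    pr (j ≫ h) b = j.left.appTop.hom (pr h b) := rfl

theorem fst_hom (h : W ⟶ Red.bc f (specR B)) :
    (h.left ≫ pullback.fst (specR B).hom f) ≫ Spec.map (CommRingCat.ofHom (algebraMap R B)) = W.hom ≫ f := by
  show (h.left ≫ pullback.fst (specR B).hom f) ≫ (specR B).hom = _
  rw [Category.assoc, pullback.condition, ← Category.assoc]
  exact congrArg (· ≫ f) (Over.w h)

theorem pr_algebraMap (h : W ⟶ Red.bc f (specR B)) (r : R) : pr h (algebraMap R B r) = str f W r := by
  have h2 := congrArg (fun w => (w.appTop).hom ((Scheme.ΓSpecIso (CommRingCat.of R)).inv r)) (fst_hom h)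
  refine Eq.trans ?_ h2
  exact congrArg (fun z => (h.left ≫ pullback.fst (specR B).hom f).appTop.hom z)
    congr(($(Scheme.ΓSpecIso_inv_naturality (CommRingCat.ofHom (algebraMap R B)))).hom r)

instance isAffine_specR (B : Type u) [CommRing B] [Algebra R B] : IsAffine (specR (R := R) B).left :=
  inferInstanceAs (IsAffine (Spec (CommRingCat.of B)))

theorem pr_inj {h h' : W ⟶ Red.bc f (specR B)} (e : pr h = pr h') : h = h' := by
  refine Over.OverMorphism.ext (pullback.hom_ext ?_ ((Over.w h).trans (Over.w h').symm))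
  exact ext_of_isAffine ((cancel_epi (Scheme.ΓSpecIso (CommRingCat.of B)).inv).1 (CommRingCat.hom_ext e))

theorem exists_pr (φ : B →+* Γ(W.left, ⊤)) (hφ : ∀ r, φ (algebraMap R B r) = str f W r) :
    ∃ h : W ⟶ Red.bc f (specR B), pr h = φ := by
  let k : W.left ⟶ Spec (CommRingCat.of B) :=
    ΓSpec.adjunction.homEquiv W.left (op (CommRingCat.of B)) (CommRingCat.ofHom φ).op
  have hk : (Scheme.ΓSpecIso (CommRingCat.of B)).inv ≫ k.appTop = CommRingCat.ofHom φ :=
    ΓSpecIso_inv_ΓSpec_adjunction_homEquiv _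
  have hw : k ≫ (specR B).hom = W.hom ≫ f := by
    refine ext_of_isAffine ?_
    rw [← cancel_epi (Scheme.ΓSpecIso (CommRingCat.of R)).inv]
    refine CommRingCat.hom_ext (RingHom.ext fun r => ?_)
    refine Eq.trans ?_ (hφ r)
    refine Eq.trans ?_ congr(($hk).hom (algebraMap R B r))
    exact (congrArg (fun z => k.appTop.hom z)
      congr(($(Scheme.ΓSpecIso_inv_naturality (CommRingCat.ofHom (algebraMap R B)))).hom r)).symm
  refine ⟨Over.homMk (pullback.lift k W.hom hw) (pullback.lift_snd _ _ _), ?_⟩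
  rw [pr]
  have : pullback.lift k W.hom hw ≫ pullback.fst (specR B).hom f = k := pullback.lift_fst _ _ _
  show ((Scheme.ΓSpecIso (CommRingCat.of B)).inv ≫ (pullback.lift k W.hom hw ≫ pullback.fst (specR B).hom f).appTop).hom = _
  rw [this]
  exact congrArg CommRingCat.Hom.hom hk

variable (lam : R)

/-- the unit of a point of the multiplicative group -/
def gm (h : W ⟶ Red.bc f (Red.diag R ℤ)) : Γ(W.left, ⊤) :=
  pr (B := MonoidAlgebra R (Multiplicative ℤ)) h (MonoidAlgebra.single (Multiplicative.ofAdd (1 : ℤ)) 1)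

theorem gm_comp (j : V ⟶ W) (h : W ⟶ Red.bc f (Red.diag R ℤ)) : gm (j ≫ h) = j.left.appTop.hom (gm h) :=
  pr_comp j h _

theorem isUnit_gm (h : W ⟶ Red.bc f (Red.diag R ℤ)) : IsUnit (gm h) := by
  exact (Group.isUnit (Multiplicative.ofAdd (1 : ℤ))).map
    ((pr (B := MonoidAlgebra R (Multiplicative ℤ)) h).toMonoidHom.comp (MonoidAlgebra.of R (Multiplicative ℤ)))

theorem gm_inj {h h' : W ⟶ Red.bc f (Red.diag R ℤ)} (e : gm h = gm h') : h = h' := by
  refine pr_inj (MonoidAlgebra.ringHom_ext (fun r => ?_) fun m => ?_)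
  · have : MonoidAlgebra.single (1 : Multiplicative ℤ) r = algebraMap R _ r := by
      simp [MonoidAlgebra.coe_algebraMap]
    rw [this, pr_algebraMap, pr_algebraMap]
  · let F : ∀ k : W ⟶ Red.bc f (Red.diag R ℤ), Multiplicative ℤ →* Γ(W.left, ⊤) := fun k =>
      (pr (B := MonoidAlgebra R (Multiplicative ℤ)) k).toMonoidHom.comp (MonoidAlgebra.of R (Multiplicative ℤ))
    exact DFunLike.congr_fun (MonoidHom.ext_mint (f := F h) (g := F h') e) m

theorem exists_gm {v : Γ(W.left, ⊤)} (hv : IsUnit v) : ∃ h : W ⟶ Red.bc f (Red.diag R ℤ), gm h = v := by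
  let χ : Multiplicative ℤ →* Γ(W.left, ⊤) := (Units.coeHom _).comp (zpowersHom _ hv.unit)
  obtain ⟨h, hh⟩ := exists_pr (B := MonoidAlgebra R (Multiplicative ℤ))
    (MonoidAlgebra.liftNCRingHom (str f W) χ fun _ _ => Commute.all _ _) (fun r => by
      refine (MonoidAlgebra.liftNCRingHom_single (str f W) χ (fun _ _ => Commute.all _ _) 1 r).trans ?_
      rw [map_one, _root_.mul_one])
  refine ⟨h, ?_⟩
  rw [gm, hh]
  simp [χ, MonoidAlgebra.liftNCRingHom_single]

variable {lam}

/-- the coordinate of a point of `G^(λ)` -/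
def gb (h : W ⟶ Red.bc f (SekSuwa.G R lam)) : Γ(W.left, ⊤) := pr (B := SekSuwa.A R lam) h SekSuwa.A.t

theorem gb_comp (j : V ⟶ W) (h : W ⟶ Red.bc f (SekSuwa.G R lam)) : gb (j ≫ h) = j.left.appTop.hom (gb h) :=
  pr_comp j h _

theorem pr_u (h : W ⟶ Red.bc f (SekSuwa.G R lam)) :
    pr (B := SekSuwa.A R lam) h SekSuwa.A.u = 1 + str f W lam * gb h := by
  rw [SekSuwa.A.u_def, map_add, map_one, map_mul, pr_algebraMap, gb]

theorem gb_inj {h h' : W ⟶ Red.bc f (SekSuwa.G R lam)} (e : gb h = gb h') : h = h' := by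
  refine pr_inj ?_
  letI := (str f W).toAlgebra
  let H : ∀ k : W ⟶ Red.bc f (SekSuwa.G R lam), SekSuwa.A R lam →ₐ[R] Γ(W.left, ⊤) := fun k =>
    { pr (B := SekSuwa.A R lam) k with commutes' := pr_algebraMap k }
  have : H h = H h' := by
    refine SekSuwa.A.algHom_ext e ?_
    have hu : ∀ k : W ⟶ Red.bc f (SekSuwa.G R lam),
        pr (B := SekSuwa.A R lam) k SekSuwa.A.u * pr (B := SekSuwa.A R lam) k SekSuwa.A.inv = 1 := fun k => by
      rw [← map_mul, SekSuwa.A.u_mul_inv, map_one]
    have h1 := hu h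
    have h2 := hu h'
    rw [pr_u] at h1 h2
    rw [e] at h1
    exact left_inv_eq_right_inv (by rw [mul_comm]; exact h1) h2
  exact RingHom.ext fun z => DFunLike.congr_fun this z

theorem exists_gb {b : Γ(W.left, ⊤)} (hb : IsUnit (1 + str f W lam * b)) :
    ∃ h : W ⟶ Red.bc f (SekSuwa.G R lam), gb h = b := by
  letI := (str f W).toAlgebra
  let H : SekSuwa.A R lam →ₐ[R] Γ(W.left, ⊤) := SekSuwa.A.lift R lam b (↑hb.unit⁻¹) (by
    rw [Algebra.smul_def]
    exact hb.mul_val_inv)
  obtain ⟨h, hh⟩ := exists_pr (f := f) (W := W) H.toRingHom H.commutes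
  exact ⟨h, by rw [gb, hh]; exact SekSuwa.A.lift_t _ _ _⟩

variable (f lam) in
/-- `α^λ` over the base -/
def alphaX : Red.bc f (SekSuwa.G R lam) ⟶ Red.bc f (Red.diag R ℤ) :=
  (Over.pullback f).map (SekSuwa.alpha R lam)

instance : IsMonHom (alphaX f lam) := inferInstanceAs (IsMonHom ((Over.pullback f).map (SekSuwa.alpha R lam)))

theorem gm_alpha (h : W ⟶ Red.bc f (SekSuwa.G R lam)) : gm (h ≫ alphaX f lam) = 1 + str f W lam * gb h := by
  rw [← pr_u, gm, pr, pr, CommRingCat.hom_comp, RingHom.comp_apply, CommRingCat.hom_comp, RingHom.comp_apply]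
  have e : (h ≫ alphaX f lam).left ≫ pullback.fst (Red.diag R ℤ).hom f =
      (h.left ≫ pullback.fst (SekSuwa.G R lam).hom f) ≫ (SekSuwa.alpha R lam).left := by
    rw [Over.comp_left, Category.assoc, Category.assoc]
    congr 1
    exact pullback.lift_fst _ _ _
  erw [e]
  rw [SekSuwa.alpha, SekSuwa.specHom_left]
  refine congrArg (fun z => (h.left ≫ pullback.fst (SekSuwa.G R lam).hom f).appTop.hom z) ?_
  refine Eq.trans ?_ (congrArg _ (SekSuwa.alphaHom_single_one R lam))
  exact (congr(($(Scheme.ΓSpecIso_inv_naturality (CommRingCat.ofHom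
    (SekSuwa.alphaHom R lam : MonoidAlgebra R (Multiplicative ℤ) →+* SekSuwa.A R lam)))).hom
      (MonoidAlgebra.single (Multiplicative.ofAdd (1 : ℤ)) 1))).symm

theorem gm_one_of_str_eq_zero (h0 : str f W lam = 0) : gm (1 : W ⟶ Red.bc f (Red.diag R ℤ)) = 1 := by
  have h1 : (1 : W ⟶ Red.bc f (SekSuwa.G R lam)) ≫ alphaX f lam = 1 := by
    simp only [Hom.one_def, Category.assoc, IsMonHom.one_hom]
  rw [← h1, gm_alpha, h0, MulZeroClass.zero_mul, AddMonoid.add_zero]

theorem alpha_eq_one_of_str_eq_zero (h0 : str f W lam = 0) (h : W ⟶ Red.bc f (SekSuwa.G R lam)) :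
    h ≫ alphaX f lam = 1 :=
  gm_inj (by rw [gm_alpha, h0, MulZeroClass.zero_mul, AddMonoid.add_zero, gm_one_of_str_eq_zero h0])

theorem str_regular [IsDomain R] (hlam : lam ≠ 0) (W : Over X) [Flat (W.hom ≫ f)] (U : W.left.Opens)
    {b b' : Γ(W.left, U)}
    (h : W.left.presheaf.map (homOfLE (le_top : U ≤ ⊤)).op (str f W lam) * b =
      W.left.presheaf.map (homOfLE (le_top : U ≤ ⊤)).op (str f W lam) * b') : b = b' := by
  refine W.left.sheaf.eq_of_locally_eq' (fun V : {V : W.left.affineOpens // V.1 ≤ U} => V.1.1) U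
    (fun V => homOfLE V.2) ?_ _ _ (fun V => ?_)
  · intro x hx
    obtain ⟨V, hV, hxV, hVU⟩ := exists_isAffineOpen_mem_and_subset hx
    exact TopologicalSpace.Opens.mem_iSup.2 ⟨⟨⟨V, hV⟩, hVU⟩, hxV⟩
  · obtain ⟨⟨V, hV⟩, hVU⟩ := V
    let φ : R →+* Γ(W.left, V) :=
      (((W.hom ≫ f).appLE ⊤ V le_top).hom).comp (Scheme.ΓSpecIso (CommRingCat.of R)).inv.hom
    have hφ : φ.Flat :=
      ((RingHom.Flat.of_bijective (ConcreteCategory.bijective_of_isIso
        (Scheme.ΓSpecIso (CommRingCat.of R)).inv)).comp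
          ((W.hom ≫ f).flat_appLE (isAffineOpen_top _) hV le_top))
    letI : Algebra R Γ(W.left, V) := φ.toAlgebra
    haveI : Module.Flat R Γ(W.left, V) := hφ
    apply Module.Flat.isSMulRegular_of_isRegular (M := Γ(W.left, V)) (IsRegular.of_ne_zero hlam)
    have h2 := congrArg (W.left.presheaf.map (homOfLE hVU).op).hom h
    rw [map_mul, map_mul, ← CommRingCat.comp_apply, ← Functor.map_comp] at h2
    show φ lam * _ = φ lam * _
    exact h2

theorem gb_inj_alpha [IsDomain R] (hlam : lam ≠ 0) [Flat (W.hom ≫ f)]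
    {h h' : W ⟶ Red.bc f (SekSuwa.G R lam)} (e : h ≫ alphaX f lam = h' ≫ alphaX f lam) : h = h' := by
  have e1 := congrArg gm e
  rw [gm_alpha, gm_alpha, add_right_inj] at e1
  refine gb_inj (str_regular (f := f) hlam W ⊤ ?_)
  simpa using e1

/-- the coordinate ring of `G^(λ)` is flat -/
theorem flat_A (lam : R) : Module.Flat R (SekSuwa.A R lam) := by
  let L := Localization.Away (1 + Polynomial.C lam * Polynomial.X : Polynomial R)
  let s : L := algebraMap (Polynomial R) L Polynomial.X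
  have hu : (1 + lam • s : L) = algebraMap (Polynomial R) L (1 + Polynomial.C lam * Polynomial.X) := by
    simp [Algebra.smul_def, s, IsScalarTower.algebraMap_apply R (Polynomial R) L]
  let p : SekSuwa.A R lam →ₐ[R] L := SekSuwa.A.lift R lam s
    (IsLocalization.Away.invSelf (1 + Polynomial.C lam * Polynomial.X : Polynomial R)) (by
      rw [hu]; exact IsLocalization.Away.mul_invSelf _)
  have hsu : IsUnit (Polynomial.aeval (SekSuwa.A.t : SekSuwa.A R lam) (1 + Polynomial.C lam * Polynomial.X)) := by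
    simpa [SekSuwa.A.u_def] using SekSuwa.A.isUnit_u (R := R) (lam := lam)
  let q : L →ₐ[R] SekSuwa.A R lam :=
    IsLocalization.liftAlgHom (M := Submonoid.powers (1 + Polynomial.C lam * Polynomial.X : Polynomial R))
      (f := Polynomial.aeval (SekSuwa.A.t : SekSuwa.A R lam)) (by
        rintro ⟨_, n, rfl⟩
        simpa using hsu.pow n)
  have hqp : ∀ z, q (p z) = z := by
    have ht : q (p SekSuwa.A.t) = SekSuwa.A.t := by simp [p, q, s, IsLocalization.liftAlgHom_apply]
    have : q.comp p = AlgHom.id R _ := by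
      refine SekSuwa.A.algHom_ext ht ?_
      show q (p SekSuwa.A.inv) = SekSuwa.A.inv
      have h1 : q (p SekSuwa.A.u) * q (p SekSuwa.A.inv) = 1 := by
        rw [← map_mul, ← map_mul, SekSuwa.A.u_mul_inv, map_one, map_one]
      have h2 : q (p SekSuwa.A.u) = SekSuwa.A.u := by simp [SekSuwa.A.u, ht]
      rw [h2] at h1
      exact left_inv_eq_right_inv (by rw [mul_comm]; exact h1) SekSuwa.A.u_mul_inv
    exact DFunLike.congr_fun this
  exact Module.Flat.of_retract p.toLinearMap q.toLinearMap (LinearMap.ext hqp)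

theorem flat_G (f : X ⟶ Spec (CommRingCat.of R)) (lam : R) : Flat (Red.bc f (SekSuwa.G R lam)).hom := by
  refine MorphismProperty.pullback_snd (P := @Flat.{u}) _ _ ?_
  show Flat (Spec.map (CommRingCat.ofHom (algebraMap R (SekSuwa.A R lam))))
  rw [HasRingHomProperty.Spec_iff (P := @Flat), CommRingCat.hom_ofHom]
  exact RingHom.flat_algebraMap_iff.2 (flat_A lam)

theorem isAffineHom_bc (f : X ⟶ Spec (CommRingCat.of R)) (B : Type u) [CommRing B] [Algebra R B] :
    IsAffineHom (Red.bc f (specR (R := R) B)).hom := by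
  haveI : IsAffine (specR (R := R) B).left := inferInstanceAs (IsAffine (Spec _))
  exact MorphismProperty.pullback_snd (P := @IsAffineHom.{u}) _ _ (isAffineHom_of_isAffine _)

end Groth.L09.SekSuwaPts

end
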