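import Groth.Agent.L09.SekSuwa.Pts
import Groth.Agent.L19.TorsorPush
import Groth.Agent.L27.Torsor.Cov
import Groth.Agent.L25.Descent.CovOfQC
import Groth.Agent.L09.TorsorSch

/-!
# Torsors under `G^(λ)` are trivial when units lift from `X_λ` and multiplicative torsors are trivial
-/

set_option autoImplicit false
set_option backward.isDefEq.respectTransparency.types false
set_option linter.style.haveILetI false

universe u

open CategoryTheory CategoryTheory.Limits MonoidalCategory CartesianMonoidalCategory MonObj AlgebraicGeometry Opposite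

noncomputable section

namespace Groth.L09.SekSuwaTorsor

open Groth.L09.SekSuwaPts
open Groth.L25.Actions (one_act mul_act)

variable {R : Type u} [CommRing R] {X : Scheme.{u}} (f : X ⟶ Spec (CommRingCat.of R)) {lam : R}

variable (lam) in
/-- the closed locus where `λ` vanishes -/
abbrev quotMap : Spec (CommRingCat.of (R ⧸ Ideal.span ({lam} : Set R))) ⟶ Spec (CommRingCat.of R) :=
  Spec.map (CommRingCat.ofHom (Ideal.Quotient.mk (Ideal.span ({lam} : Set R))))

variable (lam) in
/-- `X_λ` over `X` -/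
abbrev Xl : Over X := Over.mk (pullback.fst f (quotMap lam))

variable {f}

theorem str_Xl : str f (Xl f lam) lam = 0 := by
  have h : (Xl f lam).hom ≫ f = pullback.snd f (quotMap lam) ≫ quotMap lam := pullback.condition
  rw [str, h]
  have h2 := congr(($(Scheme.ΓSpecIso_inv_naturality
    (CommRingCat.ofHom (Ideal.Quotient.mk (Ideal.span ({lam} : Set R)))))).hom lam)
  refine (congrArg (fun z => (pullback.snd f (quotMap lam)).appTop.hom z) h2).symm.trans ?_
  show (pullback.snd f (quotMap lam)).appTop.hom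
    ((Scheme.ΓSpecIso _).inv.hom (Ideal.Quotient.mk (Ideal.span ({lam} : Set R)) lam)) = 0
  rw [Ideal.Quotient.eq_zero_iff_mem.2 (Ideal.mem_span_singleton_self lam), map_zero, map_zero]

theorem exists_toXl {W : Over X} (h0 : str f W lam = 0) : Nonempty (W ⟶ Xl f lam) := by
  let φ : R ⧸ Ideal.span ({lam} : Set R) →+* Γ(W.left, ⊤) := Ideal.Quotient.lift _ (str f W) (fun r hr => by
    obtain ⟨c, rfl⟩ := Ideal.mem_span_singleton'.1 hr
    rw [map_mul, h0, MulZeroClass.mul_zero])
  let k := ΓSpec.adjunction.homEquiv W.left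
    (op (CommRingCat.of (R ⧸ Ideal.span ({lam} : Set R)))) (CommRingCat.ofHom φ).op
  have hk : (Scheme.ΓSpecIso (CommRingCat.of (R ⧸ Ideal.span ({lam} : Set R)))).inv ≫ k.appTop =
      CommRingCat.ofHom φ :=
    ΓSpecIso_inv_ΓSpec_adjunction_homEquiv _
  have hw : W.hom ≫ f = k ≫ quotMap lam := by
    refine ext_of_isAffine ((cancel_epi (Scheme.ΓSpecIso (CommRingCat.of R)).inv).1 ?_)
    refine CommRingCat.hom_ext (RingHom.ext fun r => ?_)
    refine Eq.trans ?_ (congrArg (fun z => k.appTop.hom z)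
      congr(($(Scheme.ΓSpecIso_inv_naturality
        (CommRingCat.ofHom (Ideal.Quotient.mk (Ideal.span ({lam} : Set R)))))).hom r))
    exact (congr(($hk).hom (Ideal.Quotient.mk (Ideal.span ({lam} : Set R)) r))).symm
  exact ⟨Over.homMk (pullback.lift W.hom k hw) (pullback.lift_fst _ _ _)⟩

/-- functions vanishing where `λ` vanishes are multiples of `λ` on flat schemes -/
theorem exists_mul_eq [IsDomain R] (hlam : lam ≠ 0) (P : Over X) [Flat (P.hom ≫ f)] (d : Γ(P.left, ⊤))
    (hd : ∀ (W : Over X) (j : W ⟶ P), str f W lam = 0 → j.left.appTop.hom d = 0) :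
    ∃ b, str f P lam * b = d := by
  have hloc : ∀ U : P.left.affineOpens, ∃ b : Γ(P.left, U.1),
      P.left.presheaf.map (homOfLE (le_top : U.1 ≤ ⊤)).op (str f P lam) * b =
        P.left.presheaf.map (homOfLE (le_top : U.1 ≤ ⊤)).op d := by
    rintro ⟨U, hU⟩
    let res := P.left.presheaf.map (homOfLE (le_top : U ≤ ⊤)).op
    let a : Γ(P.left, U) := res (str f P lam)
    let q : CommRingCat.of Γ(P.left, U) ⟶ CommRingCat.of (Γ(P.left, U) ⧸ Ideal.span {a}) :=
      CommRingCat.ofHom (Ideal.Quotient.mk (Ideal.span {a}))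
    let k : Spec (CommRingCat.of (Γ(P.left, U) ⧸ Ideal.span {a})) ⟶ P.left := Spec.map q ≫ hU.fromSpec
    let j : Over.mk (k ≫ P.hom) ⟶ P := Over.homMk k rfl
    have hj : ∀ z, j.left.appTop.hom z = (Scheme.ΓSpecIso _).inv.hom (q.hom (res z)) := by
      intro z
      show (Spec.map q).appTop.hom (hU.fromSpec.app ⊤ z) = _
      rw [hU.fromSpec_app_of_le ⊤ le_top]
      refine Eq.trans ?_ (congr(($(Scheme.ΓSpecIso_inv_naturality q)).hom (res z))).symm
      refine congrArg (fun w => (Spec.map q).appTop.hom w) ?_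
      show (Spec _).presheaf.map (homOfLE le_top).op ((Scheme.ΓSpecIso _).inv (res z)) = _
      exact (congr(($((Spec Γ(P.left, U)).presheaf.map_id _)).hom ((Scheme.ΓSpecIso _).inv (res z))))
    have h0 : str f (Over.mk (k ≫ P.hom)) lam = 0 := by
      rw [← str_comp f j lam, hj, show q.hom (res (str f P lam)) = 0 from
        Ideal.Quotient.eq_zero_iff_mem.2 (Ideal.mem_span_singleton_self a), map_zero]
    have h1 := hd _ j h0
    rw [hj] at h1
    have h2 : q.hom (res d) = 0 :=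
      (ConcreteCategory.bijective_of_isIso (Scheme.ΓSpecIso _).inv).1 (h1.trans (map_zero _).symm)
    obtain ⟨b, hb⟩ := Ideal.mem_span_singleton'.1 (Ideal.Quotient.eq_zero_iff_mem.1 h2)
    exact ⟨b, by rw [_root_.mul_comm]; exact hb⟩
  choose b hb using hloc
  obtain ⟨b₀, hb₀, -⟩ := P.left.sheaf.existsUnique_gluing' (fun U : P.left.affineOpens => U.1) ⊤
    (fun U => homOfLE le_top) (by rw [iSup_affineOpens_eq_top]) b (fun U V => by
      refine str_regular (f := f) hlam P (U.1 ⊓ V.1) ?_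
      have e1 := congrArg (P.left.presheaf.map (homOfLE (inf_le_left : U.1 ⊓ V.1 ≤ U.1)).op).hom (hb U)
      have e2 := congrArg (P.left.presheaf.map (homOfLE (inf_le_right : U.1 ⊓ V.1 ≤ V.1)).op).hom (hb V)
      rw [map_mul, ← CommRingCat.comp_apply, ← CommRingCat.comp_apply, ← Functor.map_comp] at e1 e2
      exact e1.trans e2.symm)
  refine ⟨b₀, P.left.sheaf.eq_of_locally_eq' (fun U : P.left.affineOpens => U.1) ⊤
    (fun U => homOfLE le_top) (by rw [iSup_affineOpens_eq_top]) _ _ fun U => ?_⟩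
  refine Eq.trans ?_ (hb U)
  refine (map_mul (P.left.presheaf.map (homOfLE (le_top : U.1 ≤ ⊤)).op).hom _ _).trans ?_
  exact congrArg _ (hb₀ U)

theorem toUnit_left (W : Over X) : (toUnit W).left = W.hom :=
  (Category.comp_id _).symm.trans (Over.w (toUnit W))

/-- The main statement. -/
theorem exists_section [IsDomain R] (hlam : lam ≠ 0) [Flat f]
    (hunit : Function.Surjective (Units.map (pullback.fst f (quotMap lam)).appTop.hom.toMonoidHom))
    (hpic : ∀ (Q : Over X) (b : AlgGrp.Action (Red.bc f (Red.diag R ℤ)) Q),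
      NonAbH1.IsTorsorFor Scheme.fppfPrecoverage b → NonAbH1.HasSectionOver Q (𝟙 X))
    (P : Over X) (a : AlgGrp.Action (Red.bc f (SekSuwa.G R lam)) P)
    (hP : NonAbH1.IsTorsorFor Scheme.fppfPrecoverage a) :
    NonAbH1.HasSectionOver P (𝟙 X) := by
  have hq : NonAbH1.IsTorsorFor Scheme.fpqcPrecoverage a :=
    ⟨hP.1, hP.2.imp fun R hR => ⟨Scheme.fppfPrecoverage_le_fpqcPrecoverage _ hR.1, hR.2⟩⟩
  haveI := Groth.L25.Actions.descendsAlong_flat_fpqc.{u}
  haveI := flat_G f lam
  haveI hGa : IsAffineHom (Red.bc f (SekSuwa.G R lam)).hom := isAffineHom_bc f _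
  haveI : IsAffineHom (Red.bc f (Red.diag R ℤ)).hom := isAffineHom_bc f _
  haveI hPf : Flat P.hom := Groth.L09.TorsorSch.of_grp @Flat.{u} a hq ‹_›
  haveI : IsAffineHom P.hom := Groth.L09.TorsorSch.of_grp @IsAffineHom.{u} a hq hGa
  haveI : Surjective P.hom := Groth.L09.TorsorSch.of_grp @Surjective a hq (Groth.L25.Actions.surjective_grp _)
  haveI : Groth.L20.SchDesc.Cov P.hom := Groth.L25.Descent.cov_of_cover P.hom fun V hV =>
    ⟨P.hom ⁻¹ᵁ V, (hV.preimage P.hom).isCompact, Set.image_preimage_eq _ P.hom.surjective⟩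
  have hcov : Groth.L27.Torsor.Cov (toUnit P) := Groth.L27.Torsor.cov_toUnit hq.2
  haveI : Flat (P.hom ≫ f) := inferInstance
  haveI : Flat ((P ⊗ P).hom ≫ f) := by
    haveI : Flat (P ⊗ P).hom := by
      rw [← Over.w (fst P P), Over.fst_left]
      infer_instance
    infer_instance
  obtain ⟨P', a', -, fP, hiso', heq⟩ :=
    Groth.L19.TorsorPush.exists_push (alphaX f lam) a (𝟙 P) hP.1 hcov
  have hlt : NonAbH1.IsLocallyTrivialFor Scheme.fppfPrecoverage P' := by
    obtain ⟨C, hC, hs⟩ := hP.2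
    refine ⟨C, hC, fun S' g hg => ?_⟩
    obtain ⟨s, hs⟩ := hs g hg
    exact ⟨s ≫ fP.left, by rw [Category.assoc, Over.w fP, hs]⟩
  obtain ⟨σ₀, hσ₀⟩ := hpic P' a' ⟨hiso', hlt⟩
  let σ : 𝟙_ (Over X) ⟶ P' := Over.homMk σ₀ hσ₀
  have heq' : ∀ {W : Over X} (g : W ⟶ Red.bc f (SekSuwa.G R lam)) (y : W ⟶ P),
      (lift g y ≫ a.act) ≫ fP = lift (g ≫ alphaX f lam) (y ≫ fP) ≫ a'.act := by
    intro W g y
    rw [Category.assoc, heq, ← Category.assoc, comp_lift, lift_fst_assoc, lift_snd_assoc]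
  obtain ⟨v, hv⟩ := Groth.L27.Torsor.exists_act_eq hiso' (toUnit P ≫ σ) fP
  have hvW : ∀ {W : Over X} (x : W ⟶ P), lift (x ≫ v) (toUnit W ≫ σ) ≫ a'.act = x ≫ fP := by
    intro W x
    rw [← hv, ← Category.assoc, comp_lift, ← Category.assoc x (toUnit P), Subsingleton.elim (x ≫ toUnit P) (toUnit W)]
  have hvact : ∀ {W : Over X} (g : W ⟶ Red.bc f (SekSuwa.G R lam)) (y : W ⟶ P),
      (lift g y ≫ a.act) ≫ v = (g ≫ alphaX f lam) * (y ≫ v) := by
    intro W g y
    refine Groth.L27.Torsor.act_injective hiso' (x := toUnit W ≫ σ) ?_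
    rw [hvW, heq', mul_act, hvW]
  -- descent to `X_λ`
  obtain ⟨wb, hwb⟩ := Groth.L27.Torsor.descend (Groth.L27.Torsor.cov_snd hcov (Xl f lam))
    (fst P (Xl f lam) ≫ v) (fun W b₁ b₂ e => by
      have h0 : str f W lam = 0 := by
        rw [← str_comp f (b₁ ≫ snd P (Xl f lam)) lam, str_Xl, map_zero]
      obtain ⟨g, hg⟩ := Groth.L27.Torsor.exists_act_eq hP.1 (b₂ ≫ fst P (Xl f lam)) (b₁ ≫ fst P (Xl f lam))
      rw [← Category.assoc, ← hg, hvact, alpha_eq_one_of_str_eq_zero h0]
      exact (_root_.one_mul ((b₂ ≫ fst P (Xl f lam)) ≫ v)).trans (Category.assoc _ _ _))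
  obtain ⟨e, he⟩ := hunit (isUnit_gm wb).unit
  obtain ⟨w, hw⟩ := exists_gm (f := f) (W := 𝟙_ (Over X)) (v := (e : Γ(X, ⊤))) e.isUnit
  have hwl : toUnit (Xl f lam) ≫ w = wb := by
    refine gm_inj ?_
    rw [gm_comp, hw, toUnit_left]
    exact (congrArg Units.val he).trans (isUnit_gm wb).unit_spec
  let v' : P ⟶ Red.bc f (Red.diag R ℤ) := v * (toUnit P ≫ w)⁻¹
  have hvl : ∀ (W : Over X) (j : W ⟶ P), str f W lam = 0 → gm (j ≫ v') = 1 := by
    intro W j h0
    obtain ⟨k⟩ := exists_toXl h0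
    have h1 : j ≫ v = k ≫ wb := by
      have := lift j k ≫= hwb
      rw [← Category.assoc, lift_snd, ← Category.assoc, lift_fst] at this
      exact this.symm
    rw [← gm_one_of_str_eq_zero h0]
    congr 1
    rw [MonObj.comp_mul, GrpObj.comp_inv, h1, ← hwl, ← Category.assoc, ← Category.assoc,
      Subsingleton.elim (k ≫ toUnit (Xl f lam)) (j ≫ toUnit P), mul_inv_cancel]
  obtain ⟨b, hb⟩ := exists_mul_eq hlam P (gm v' - 1) (fun W j h0 => by
    rw [map_sub, map_one, ← gm_comp, hvl W j h0, sub_self])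
  obtain ⟨g, hg⟩ := exists_gb (f := f) (W := P) (b := b) (lam := lam) (by
    rw [hb, add_sub_cancel]
    exact isUnit_gm v')
  have hgv : g ≫ alphaX f lam = v' := gm_inj (by rw [gm_alpha, hg, hb, add_sub_cancel])
  let y : P ⟶ P := lift g⁻¹ (𝟙 P) ≫ a.act
  have huniv : fst P P ≫ y = snd P P ≫ y := by
    obtain ⟨h, hh⟩ := Groth.L27.Torsor.exists_act_eq hP.1 (snd P P) (fst P P)
    have key : fst P P ≫ g = h * (snd P P ≫ g) := by
      refine gb_inj_alpha hlam ?_
      rw [Category.assoc, hgv, Groth.L19.TorsorPush.u_mul (alphaX f lam), Category.assoc, hgv]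
      simp only [v', MonObj.comp_mul, GrpObj.comp_inv, ← Category.assoc]
      rw [Subsingleton.elim (snd P P ≫ toUnit P) (fst P P ≫ toUnit P), ← _root_.mul_assoc]
      congr 1
      conv_lhs => rw [← hh]
      exact hvact h (snd P P)
    simp only [y, ← Category.assoc, comp_lift, GrpObj.comp_inv, Category.comp_id]
    rw [key]
    conv_lhs => arg 1; arg 2; rw [← hh]
    rw [← mul_act, mul_inv_rev, inv_mul_cancel_right]
  obtain ⟨s, -⟩ := Groth.L27.Torsor.descend hcov y (fun T p q _ => by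
    have := lift p q ≫= huniv
    rwa [lift_fst_assoc, lift_snd_assoc] at this)
  exact ⟨s.left, Over.w s⟩

end Groth.L09.SekSuwaTorsor

end
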